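import Groth.Agent.Lib.ModM1.QCAlgGen
import Groth.Agent.Lib.QCGen12.Lift
import Groth.Agent.Lib.SymAlg11.Spec
import Groth.Agent.S8270

/-!
# Affine morphisms of finite type embed into vector bundles
-/

set_option autoImplicit false
set_option linter.style.haveILetI false
set_option backward.isDefEq.respectTransparency false
set_option backward.isDefEq.respectTransparency.types false
set_option backward.defeqAttrib.useBackward true

universe u

open CategoryTheory CategoryTheory.Limits AlgebraicGeometry Opposite TopologicalSpace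

namespace Groth.Agent.AffEmbed3

open M1

variable {X Y : Scheme.{u}}

/-- Finitely many sections lie in a finite type submodule. -/
theorem exists_sub_list [CompactSpace Y] [QuasiSeparatedSpace Y] {F : Y.Modules} (hF : Coh.IsQCoh F) :
    ∀ (L : List (Σ V : Y.affineOpens, Γ(F, V.1))),
      ∃ q : Sub F, Coh.IsQCoh q.P ∧ CohB1.IsFT q.P ∧ ∀ a ∈ L, q.mem a.1.1 a.2 := by
  intro L
  induction L with
  | nil =>
    obtain ⟨q, h1, h2⟩ := Sub.exists_zero hF
    exact ⟨q, h1, h2, fun a ha => absurd ha List.not_mem_nil⟩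
  | cons a L ih =>
    obtain ⟨p, hp, hp', hL⟩ := ih
    obtain ⟨q, hq, hq', ha⟩ := Sub.exists_through_section hF a.1 a.2
    obtain ⟨r, hr, hr', h1, h2⟩ := Sub.exists_sup hF hp hp' hq hq'
    refine ⟨r, hr, hr', fun b hb => ?_⟩
    rcases List.mem_cons.1 hb with rfl | hb
    · exact h2 _ _ ha
    · exact h1 _ _ (hL b hb)

/-- Affine morphisms of finite type over quasi-compact quasi-separated schemes are closed in vector bundles. -/
theorem exists_embedding [CompactSpace Y] [QuasiSeparatedSpace Y] (f : X ⟶ Y) [IsAffineHom f]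
    [LocallyOfFiniteType f] :
    ∃ (E : Y.Modules) (_ : Coh.IsCoh E) (A : RelSpec.QCAlg Y) (j : E ⟶ A.toModule)
      (_ : RelSpec.IsSymAlg E A j) (i : X ⟶ A.spec), IsClosedImmersion i ∧ i ≫ A.π = f := by
  classical
  let B := RelSpec.QCAlg.directImage f
  obtain ⟨s, hs⟩ := isCompact_univ.elim_finite_subcover (fun U : Y.affineOpens => (U.1 : Set Y)) (fun U => U.1.2)
    (fun x _ => Set.mem_iUnion.2 (by
      obtain ⟨_, ⟨U, hU, rfl⟩, hxU, -⟩ :=
        Y.isBasis_affineOpens.exists_subset_of_mem_open (Set.mem_univ x) isOpen_univ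
      exact ⟨⟨U, hU⟩, hxU⟩))
  have hft : ∀ U : Y.affineOpens, ∃ t : Finset Γ(X, f ⁻¹ᵁ U.1),
      Subring.closure (Set.range (f.app U.1).hom ∪ ↑t) = ⊤ := fun U => by
    have h : (f.app U.1).hom.FiniteType := by
      have := LocallyOfFiniteType.finiteType_appLE (f := f) (U := U.1) U.2 (V := f ⁻¹ᵁ U.1) (U.2.preimage f) le_rfl
      rwa [Scheme.Hom.appLE_eq_app] at this
    algebraize [(f.app U.1).hom]
    obtain ⟨t, ht⟩ := (Algebra.FiniteType.out : (⊤ : Subalgebra Γ(Y, U.1) Γ(X, f ⁻¹ᵁ U.1)).FG)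
    refine ⟨t, ?_⟩
    have h2 := congrArg Subalgebra.toSubring ht
    rw [Algebra.adjoin_eq_ring_closure, Algebra.top_toSubring] at h2
    exact h2
  choose t ht using hft
  obtain ⟨q, hq, hq', hL⟩ := exists_sub_list (F := B.toModule) (QC.isQCoh_toModule (B := B))
    (s.toList.flatMap fun U => (t U).toList.map fun a => (⟨U, a⟩ : Σ V : Y.affineOpens, Γ(B.toModule, V.1)))
  obtain ⟨A, j, hA⟩ := S8270.result q.P hq
  obtain ⟨ψ, hψ, -⟩ := hA B q.i
  let i : X ⟶ A.spec := QCGen12.lift A f ψ.hom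
  have hi : i ≫ A.π = f := QCGen12.lift_π A f ψ.hom ψ.comm
  refine ⟨q.P, ⟨hq, hq'⟩, A, j, hA, i, ?_, hi⟩
  have hsurj : ∀ U ∈ s, Function.Surjective (ψ.hom.app (op U.1)).hom := fun U hU => by
    rw [← RingHom.range_eq_top, eq_top_iff, ← ht U, Subring.closure_le]
    rintro b (⟨a, rfl⟩ | hb)
    · exact ⟨(A.str.app (op U.1)).hom a, ConcreteCategory.congr_hom (NatTrans.congr_app ψ.comm (op U.1)) a⟩
    · obtain ⟨e, he⟩ := hL ⟨U, b⟩ (List.mem_flatMap.2 ⟨U, Finset.mem_toList.2 hU,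
        List.mem_map.2 ⟨b, Finset.mem_toList.2 hb, rfl⟩⟩)
      refine ⟨(j.app U.1).hom e, ?_⟩
      exact (ConcreteCategory.congr_hom (congrArg (fun φ => Scheme.Modules.Hom.app φ U.1) hψ) e).trans he
  let 𝒰 : Scheme.OpenCover.{u} A.spec := Scheme.Cover.mkOfCovers s
    (fun U => Spec (A.presheaf.obj (op U.1.1))) (fun U => A.ι U.1.1 U.1.2) (fun x => by
      obtain ⟨U, hUs, hxU⟩ := Set.mem_iUnion₂.1 (hs (Set.mem_univ (A.π x)))
      obtain ⟨z, hz⟩ := (A.π_preimage U.1 U.2).le hxU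
      exact ⟨⟨U, hUs⟩, z, hz⟩)
  refine IsZariskiLocalAtTarget.of_openCover 𝒰 fun U => ?_
  let U₁ : Y.affineOpens := U.1
  have hsq : IsPullback ((f ⁻¹ᵁ U₁.1).toSpecΓ ≫ Spec.map (ψ.hom.app (op U₁.1))) (f ⁻¹ᵁ U₁.1).ι
      (A.ι U₁.1 U₁.2) i := by
    refine IsOpenImmersion.isPullback _ _ _ _ ?_ ?_
    · rw [QCGen12.ι_lift, Category.assoc]
    · rw [Scheme.Opens.opensRange_ι, ← A.π_preimage U₁.1 U₁.2, ← Scheme.Hom.comp_preimage, hi]
  change IsClosedImmersion (pullback.snd i (A.ι U₁.1 U₁.2))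
  rw [← hsq.flip.isoPullback_inv_snd]
  haveI : IsClosedImmersion (Spec.map (ψ.hom.app (op U₁.1))) :=
    IsClosedImmersion.spec_of_surjective _ (hsurj U₁ U.2)
  haveI : IsAffine (f ⁻¹ᵁ U₁.1).toScheme := U₁.2.preimage f
  haveI : IsIso (f ⁻¹ᵁ U₁.1).toSpecΓ := by
    rw [← (U₁.2.preimage f).isoSpec_hom]; infer_instance
  exact MorphismProperty.RespectsIso.precomp @IsClosedImmersion hsq.flip.isoPullback.inv _
    (MorphismProperty.RespectsIso.precomp @IsClosedImmersion (f ⁻¹ᵁ U₁.1).toSpecΓ _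
      (inferInstance : IsClosedImmersion (Spec.map (ψ.hom.app (op U₁.1)))))

end Groth.Agent.AffEmbed3
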